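import Groth.Agent.CurveFinMap.Rank
import Groth.Agent.CurveBC.Etale

/-! Non-constant maps of proper integral curves are finite; degrees of pullbacks multiply by the degree. -/

noncomputable section

set_option linter.style.haveILetI false
set_option linter.unusedSectionVars false
set_option backward.isDefEq.respectTransparency false
set_option backward.isDefEq.respectTransparency.types false

universe u

open CategoryTheory CategoryTheory.Limits AlgebraicGeometry TopologicalSpace

namespace Groth.Agent.CurveFinMap

variable (k : Type u) [Field k] {X Y : Scheme.{u}} [X.Over (Spec (CommRingCat.of k))]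
  [Y.Over (Spec (CommRingCat.of k))] [IsIntegral X] [IsIntegral Y]
  [IsProper (X ↘ Spec (CommRingCat.of k))] [IsProper (Y ↘ Spec (CommRingCat.of k))]

include k in
theorem isFinite_of_generic (hX : topologicalKrullDim X = 1) (hY : topologicalKrullDim Y = 1)
    (f : X ⟶ Y) (hf : f ≫ (Y ↘ Spec (CommRingCat.of k)) = X ↘ Spec (CommRingCat.of k))
    (hη : f (genericPoint X) = genericPoint Y) : IsFinite f := by
  haveI := CurveCohLib.isNoetherian_of_proper (k := k) (X := Y)
  haveI := CurveCohLib.isNoetherian_of_proper (k := k) (X := X)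
  haveI : IsProper (f ≫ (Y ↘ Spec (CommRingCat.of k))) := hf ▸ inferInstance
  haveI : IsProper f := IsProper.of_comp f (Y ↘ Spec (CommRingCat.of k))
  have hcl : ∀ x : X, x ≠ genericPoint X → IsClosed ({x} : Set X) := fun x hx => by
    by_contra h
    exact hx (CurveCohLib.eq_genericPoint_of_not_isClosed hX h)
  have hnc : ¬ IsClosed ({genericPoint Y} : Set Y) := fun hc => by
    have hu : ∀ a : Y, a = genericPoint Y := fun a =>
      ((genericPoint_spec Y).specializes (Set.mem_univ a)).mem_closed hc rfl
    have : Subsingleton (IrreducibleCloseds Y) := ⟨fun A B => IrreducibleCloseds.ext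
      (Set.ext fun a => ⟨fun _ => by obtain ⟨b, hb⟩ := B.2.1; rwa [hu a, ← hu b],
        fun _ => by obtain ⟨b, hb⟩ := A.2.1; rwa [hu a, ← hu b]⟩)⟩
    have h0 : topologicalKrullDim Y ≤ 0 := Order.krullDim_nonpos_iff_forall_isMax.2 fun A B _ =>
      (Subsingleton.elim B A).le
    rw [hY] at h0
    exact absurd h0 (by decide)
  haveI : LocallyQuasiFinite f := LocallyQuasiFinite.of_finite_preimage_singleton f fun y => by
    by_cases hy : y = genericPoint Y
    · refine (Set.finite_singleton (genericPoint X)).subset fun x hx => ?_
      by_contra hne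
      have := f.isClosedMap _ (hcl x hne)
      rw [Set.image_singleton, show f x = genericPoint Y from (Set.mem_singleton_iff.1 hx).trans hy] at this
      exact hnc this
    · have hyc : IsClosed ({y} : Set Y) := CDiv6.isClosed_singleton hY.le hy
      refine CurveCohLib.finite_of_closedPoints (hyc.preimage f.continuous) fun x hx => hcl x ?_
      rintro rfl
      exact hy ((Set.mem_singleton_iff.1 hx).symm.trans hη)
  exact IsFinite.of_isProper_of_locallyQuasiFinite f

variable (f : X ⟶ Y) [IsFinite f]

include k in
/-- The degree of a pullback under a finite dominant map of curves. -/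
theorem deg_pullback (hdim : topologicalKrullDim Y = 1)
    (hf : f ≫ (Y ↘ Spec (CommRingCat.of k)) = X ↘ Spec (CommRingCat.of k))
    (hη : f (genericPoint X) = genericPoint Y) {E : Y.Modules} {n : ℕ}
    (hE : FlatMod.IsFinLocFreeOfRank n E) :
    Curv2.deg k X ((Scheme.Modules.pullback f).obj E) n =
      (f.residueDegree (genericPoint X) : ℤ) * Curv2.deg k Y E n := by
  haveI := CurveCohLib.isNoetherian_of_proper (k := k) (X := Y)
  haveI := CurveCohLib.isNoetherian_of_proper (k := k) (X := X)
  have hO := QCoh.isQCoh_structureModule (X := X)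
  have hEf : FlatMod.IsFinLocFree E := fun y => let ⟨W, hy, he⟩ := hE y; ⟨W, n, hy, he⟩
  have he : ∀ M : X.Modules, Coh.IsQCoh M →
      Curv2.euler k X M = Curv2.euler k Y ((Scheme.Modules.pushforward f).obj M) := fun M hM =>
    finsum_congr fun i => by
      obtain ⟨e⟩ := PnCoh.exists_linearEquiv_push k f hf hM i
      rw [e.finrank_eq]
  haveI : EnoughInjectives X.Modules := inferInstance
  obtain ⟨φ⟩ := S0927.result f (Coh.structureModule X) E hEf 0
  let ψ := (Scheme.Modules.pushforward f).rightDerivedZeroIsoSelf
  let a : (DCoh.tensorBi.obj E).obj ((Scheme.Modules.pushforward f).obj (Coh.structureModule X)) ≅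
      (Scheme.Modules.pushforward f).obj ((Scheme.Modules.pullback f).obj E) :=
    (DCoh.tensorBi.obj E).mapIso (ψ.app (Coh.structureModule X)).symm ≪≫ φ ≪≫ ψ.app _ ≪≫
      (Scheme.Modules.pushforward f).mapIso (KFlatLib.tensorUnitIso ((Scheme.Modules.pullback f).obj E))
  have h1 := CurveTensor.euler_tensor k hdim hE
    (F := (Scheme.Modules.pushforward f).obj (Coh.structureModule X))
    (QCoh.isCoh_pushforward_finite f QCoh.isCoh_structureModule')
  have hEq : Coh.IsQCoh ((Scheme.Modules.pullback f).obj E) :=
    QCoh.isQCoh_pullback f (QCoh.isQCoh_of_isFinLocFree hEf)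
  rw [CurveCohLib.euler_congr a, ← he _ hEq, ← he _ hO, rk_push_structure f hη] at h1
  unfold Curv2.deg at h1 ⊢
  rw [h1]
  ring

end Groth.Agent.CurveFinMap
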