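import Groth.Agent.CurveFinMap.Mult
import Groth.Agent.AmpleX.SemiAmple
import Groth.Agent.AmpleX.Sect

/-!
Invertible modules of nonpositive degree on every component of a reduced connected curve.
-/

noncomputable section

universe u

set_option linter.style.haveILetI false
set_option linter.unusedSectionVars false
set_option backward.isDefEq.respectTransparency false
set_option backward.isDefEq.respectTransparency.types false

open CategoryTheory CategoryTheory.Limits AlgebraicGeometry TopologicalSpace Opposite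

namespace Groth.Agent.CurveFinMap

variable (k : Type u) [Field k]

theorem nonempty_iso_of_frame {X : Scheme.{u}} {L : X.Modules} (a : Γ(L, ⊤)) (ha : InvX.IsFrame a) :
    Nonempty (L ≅ Coh.structureModule X) := by
  let ψ := QCoh.homOfTop a
  haveI : IsIso ψ := QCoh.isIso_of_isBasis ψ X.isBasis_affineOpens fun U _ => by
    have hf : ⇑(ψ.app U) = fun r => (show Γ(X, U) from r) • AModX.res L (le_top : U ≤ ⊤) a :=
      funext fun r => QCoh.homOfTop_app a r
    rw [hf]
    exact ha U le_top
  exact ⟨(asIso ψ).symm⟩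

theorem locus_eq_top_of_ne_bot {W : Scheme.{u}} [W.Over (Spec (CommRingCat.of k))] [IsIntegral W]
    [IsProper (W ↘ Spec (CommRingCat.of k))] (hdim : topologicalKrullDim W = 1) {M : W.Modules}
    (hM : PicF.IsInvertible M) (hdeg : Curv2.deg k W M 1 ≤ 0) (b : Γ(M, ⊤)) (hb : AmpleX.locus b ≠ ⊥) :
    AmpleX.locus b = ⊤ := by
  haveI := CurveCohLib.isNoetherian_of_proper (k := k) (X := W)
  have hb0 : b ≠ 0 := by
    rintro rfl
    refine hb ?_
    rw [← zero_smul Γ(W, ⊤) (0 : Γ(M, ⊤)), AmpleX.locus_smul hM, Scheme.basicOpen_zero, inf_bot_eq]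
  have hs : QCoh.homOfTop b ≠ 0 := fun h => hb0 (by
    have h1 := QCoh.homOfTop_app b (W := ⊤) (1 : Γ(W, ⊤))
    rw [h, one_smul] at h1
    exact ((QCoh.map_id' _ b).symm.trans h1.symm).trans rfl)
  obtain ⟨h1, h2⟩ := CurveDeg.deg_le_and_isIso k hdim.le CurveDeg.isInvertible_structureModule hM _ hs
  rw [CurveDeg.deg_structureModule] at h1 h2
  haveI := h2 (le_antisymm h1 hdeg)
  let e := (asIso (QCoh.homOfTop b)).symm
  rw [← AmpleX.locus_iso e b]
  let c : Γ(W, ⊤) := e.hom.app ⊤ b
  have hc : c ≠ 0 := fun h => hb0 (by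
    have h3 : e.inv.app ⊤ (e.hom.app ⊤ b) = b := by
      change (e.hom ≫ e.inv).app ⊤ b = _
      rw [e.hom_inv_id]
      rfl
    rw [← h3]
    exact (congrArg (e.inv.app ⊤) (show e.hom.app ⊤ b = 0 from h)).trans (map_zero _))
  have hf : InvX.IsFrame (M := Coh.structureModule W) (U := ⊤) (1 : Γ(W, ⊤)) := fun V hV => by
    have h1 : (fun r : Γ(W, V) => r • AModX.res (Coh.structureModule W) hV
        (show Γ(Coh.structureModule W, ⊤) from (1 : Γ(W, ⊤)))) =
        fun r => (show Γ(Coh.structureModule W, V) from r) := funext fun r => by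
      show r * W.presheaf.map (homOfLE hV).op 1 = r
      rw [map_one, mul_one]
    rw [h1]
    exact Function.bijective_id
  have h := AmpleX.locus_inf (M := Coh.structureModule W) (e.hom.app ⊤ b) le_rfl hf (g := c) (by
    rw [AModX.res_self]
    exact (mul_one c).symm)
  rw [inf_top_eq] at h
  rw [h]
  obtain ⟨d, hd⟩ := (isField_of_universallyClosed k (W ↘ Spec (CommRingCat.of k))).mul_inv_cancel hc
  exact W.basicOpen_of_isUnit (IsUnit.of_mul_eq_one d hd)

include k in
theorem trivial_of_deg_nonpos {X : Scheme.{u}} [X.Over (Spec (CommRingCat.of k))]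
    [IsProper (X ↘ Spec (CommRingCat.of k))] [IsReduced X] [ConnectedSpace X] [IsNoetherian X]
    (hdim : ∀ C : Set X, C ∈ irreducibleComponents (X : Type u) → topologicalKrullDim C = 1)
    {L : X.Modules} (hL : PicF.IsInvertible L)
    (hdeg : ∀ (C : Set X) (hC : C ∈ irreducibleComponents (X : Type u)),
      @Curv2.deg k _ (X.irreducibleComponentIdeal C hC).radical.subscheme
        ⟨(X.irreducibleComponentIdeal C hC).radical.subschemeι ≫ (X ↘ Spec (CommRingCat.of k))⟩
        ((Scheme.Modules.pullback (X.irreducibleComponentIdeal C hC).radical.subschemeι).obj L) 1 ≤ 0) :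
    Subsingleton (Coh.HH X L 0) ∨ Nonempty (L ≅ Coh.structureModule X) := by
  rcases subsingleton_or_nontrivial (Coh.HH X L 0) with h | h
  · exact Or.inl h
  refine Or.inr ?_
  obtain ⟨t, ht⟩ := exists_ne (0 : Coh.HH X L 0)
  let a : Γ(L, ⊤) := Sheaf.H.equiv₀ (Coh.toAb L) isTerminalTop t
  have ha : a ≠ 0 := fun h0 => ht ((Sheaf.H.equiv₀ (Coh.toAb L) isTerminalTop).map_eq_zero_iff.1 h0)
  have key : ∀ C ∈ irreducibleComponents (X : Type u),
      (C ∩ (AmpleX.locus a : Set X)).Nonempty → C ⊆ AmpleX.locus a := by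
    intro C hC hne x hx
    let I := (X.irreducibleComponentIdeal C hC).radical
    letI : I.subscheme.Over (Spec (CommRingCat.of k)) := ⟨I.subschemeι ≫ (X ↘ Spec (CommRingCat.of k))⟩
    haveI : IsProper (I.subscheme ↘ Spec (CommRingCat.of k)) :=
      inferInstanceAs (IsProper (I.subschemeι ≫ (X ↘ Spec (CommRingCat.of k))))
    obtain ⟨ξ, hξ⟩ := QuasiSober.sober hC.1 (isClosed_of_mem_irreducibleComponents _ hC)
    haveI : IsIntegral I.subscheme := by
      show IsIntegral (X.irreducibleComponentIdeal C hC).radical.subscheme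
      rw [← Scheme.IdealSheafData.vanishingIdeal_support,
        show (X.irreducibleComponentIdeal C hC).support = TopologicalSpace.Closeds.closure {ξ} from
          TopologicalSpace.Closeds.ext hξ.def.symm]
      exact QCoh.isIntegral_closure_point ξ
    have hr : Set.range I.subschemeι = C := by
      rw [Scheme.IdealSheafData.range_subschemeι, Scheme.IdealSheafData.support_radical]
      rfl
    have hW : topologicalKrullDim I.subscheme = 1 :=
      ((I.subschemeι.isClosedEmbedding.isEmbedding.toHomeomorph.trans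
        (Homeomorph.setCongr hr)).isHomeomorph.topologicalKrullDim_eq).trans (hdim C hC)
    let b : Γ((Scheme.Modules.pullback I.subschemeι).obj L, (⊤ : I.subscheme.Opens)) :=
      InvX.pullElt I.subschemeι a
    have hloc : AmpleX.locus b = I.subschemeι ⁻¹ᵁ AmpleX.locus a := AmpleX.locus_pullElt hL _ a
    obtain ⟨y, hyC, hy⟩ := hne
    obtain ⟨w, rfl⟩ : y ∈ Set.range I.subschemeι := hr.ge hyC
    obtain ⟨z, rfl⟩ : x ∈ Set.range I.subschemeι := hr.ge hx
    have htop := locus_eq_top_of_ne_bot k hW (PicClLib.isInvertible_pullback I.subschemeι hL) (hdeg C hC) b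
      fun h0 => by
        have : w ∈ AmpleX.locus b := hloc.ge hy
        rw [h0] at this
        exact this
    exact hloc.le (htop.ge (Set.mem_univ z))
  have hclosed : IsClosed (AmpleX.locus a : Set X) := by
    have h1 : (AmpleX.locus a : Set X) = ⋃ C ∈ {C ∈ irreducibleComponents (X : Type u) |
        C ⊆ (AmpleX.locus a : Set X)}, C := by
      refine Set.Subset.antisymm (fun x hx => Set.mem_iUnion₂.2 ⟨irreducibleComponent x,
        ⟨irreducibleComponent_mem_irreducibleComponents x, key _ (irreducibleComponent_mem_irreducibleComponents x)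
          ⟨x, mem_irreducibleComponent, hx⟩⟩, mem_irreducibleComponent⟩) ?_
      exact Set.iUnion₂_subset fun C hC => hC.2
    rw [h1]
    exact (NoetherianSpace.finite_irreducibleComponents.subset fun C hC => hC.1).isClosed_biUnion
      fun C hC => isClosed_of_mem_irreducibleComponents C hC.1
  have hne : (AmpleX.locus a : Set X).Nonempty := by
    by_contra h0
    exact ha (AmpleX.eq_zero_of_locus_eq_bot hL a (Opens.ext (Set.not_nonempty_iff_eq_empty.1 h0)))
  have htop : AmpleX.locus a = ⊤ := Opens.ext (IsClopen.eq_univ ⟨hclosed, (AmpleX.locus a).2⟩ hne)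
  refine nonempty_iso_of_frame a ?_
  have := AmpleX.isFrame_res_of_le a htop.ge
  rwa [AModX.res_self] at this

end Groth.Agent.CurveFinMap
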