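import Groth.Agent.Lib.CurveBundle
import Groth.Agent.QCoh.LocFree
import Groth.Agent.H23.CoverPush
import Groth.Agent.S11584

/-! The generic rank of `f_* O_X` for a finite dominant map of integral schemes is the residue degree. -/

noncomputable section

set_option linter.style.haveILetI false
set_option linter.unusedSectionVars false
set_option backward.isDefEq.respectTransparency false
set_option backward.isDefEq.respectTransparency.types false

universe u

open CategoryTheory CategoryTheory.Limits AlgebraicGeometry TopologicalSpace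

namespace Groth.Agent.CurveFinMap

variable {X Y : Scheme.{u}} [IsIntegral X] [IsIntegral Y] (f : X ⟶ Y) [IsFinite f]

theorem rk_push_structure (hη : f (genericPoint X) = genericPoint Y) :
    CurveBundle.rk ((Scheme.Modules.pushforward f).obj (Coh.structureModule X)) =
      f.residueDegree (genericPoint X) := by
  obtain ⟨_, ⟨V, hV, rfl⟩, hxV, -⟩ :=
    Y.isBasis_affineOpens.exists_subset_of_mem_open (Set.mem_univ (genericPoint Y)) isOpen_univ
  replace hV : IsAffineOpen V := hV
  have hmem : f (genericPoint X) ∈ V := by rw [hη]; exact hxV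
  let M := (Scheme.Modules.pushforward f).obj (Coh.structureModule X)
  have hM : Coh.IsQCoh M := QCoh.isQCoh_pushforward f QCoh.isQCoh_structureModule
  haveI : Nonempty V := ⟨⟨_, hxV⟩⟩
  haveI : Nonempty (f ⁻¹ᵁ V : X.Opens) := ⟨⟨genericPoint X, hmem⟩⟩
  haveI : IsDomain Γ(Y, V) := inferInstance
  haveI : IsDomain Γ(X, f ⁻¹ᵁ V) := inferInstance
  letI := H23.CoverPush.alg f V
  -- the stalk of the direct image
  letI := QCoh.stalkAlg (X := Y) hxV
  letI := QCoh.stalkModule M hxV
  haveI := QCoh.isScalarTower_stalk M hxV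
  haveI hloc := QCoh.isLocalization_stalk' hV hxV
  haveI := QCoh.isLocalizedModule_germLin hM hV hxV
  let p := (hV.primeIdealOf ⟨genericPoint Y, hxV⟩).asIdeal.primeCompl
  have hp : p ≤ nonZeroDivisors Γ(Y, V) := fun a ha => by
    refine mem_nonZeroDivisors_of_ne_zero ?_
    rintro rfl
    exact ha (Ideal.zero_mem _)
  have h1 : CurveBundle.rk M = Module.finrank Γ(Y, V) Γ(X, f ⁻¹ᵁ V) :=
    (IsLocalization.finrank_eq (Y.presheaf.stalk (genericPoint Y)) p hp).trans
      (IsLocalizedModule.finrank_eq p (QCoh.germLin M hxV) hp)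
  refine h1.trans ?_
  -- the residue degree
  let K0 := Y.presheaf.stalk (f (genericPoint X))
  let L := X.presheaf.stalk (genericPoint X)
  let : Algebra Γ(Y, V) K0 := (Y.presheaf.germ V _ hmem).hom.toAlgebra
  let : Algebra Γ(X, f ⁻¹ᵁ V) L := (X.presheaf.germ (f ⁻¹ᵁ V) _ hmem).hom.toAlgebra
  let : Algebra K0 L := (f.stalkMap (genericPoint X)).hom.toAlgebra
  let : Algebra Γ(Y, V) L :=
    ((X.presheaf.germ (f ⁻¹ᵁ V) _ hmem).hom.comp (f.app V).hom).toAlgebra
  have : IsScalarTower Γ(Y, V) K0 L := .of_algebraMap_eq fun z =>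
    (Scheme.Hom.germ_stalkMap_apply f V (genericPoint X) hmem z).symm
  have : IsScalarTower Γ(Y, V) Γ(X, f ⁻¹ᵁ V) L := .of_algebraMap_eq' rfl
  have : IsFractionRing Γ(X, f ⁻¹ᵁ V) L :=
    functionField_isFractionRing_of_isAffineOpen X (f ⁻¹ᵁ V) (hV.preimage f)
  have : IsFractionRing Γ(Y, V) K0 := by
    have key : ∀ (y : Y) (_ : y = genericPoint Y) (h : y ∈ V),
        letI : Algebra Γ(Y, V) (Y.presheaf.stalk y) := (Y.presheaf.germ V y h).hom.toAlgebra
        IsFractionRing Γ(Y, V) (Y.presheaf.stalk y) := by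
      rintro y rfl h
      exact functionField_isFractionRing_of_isAffineOpen Y V hV
    exact key _ hη hmem
  haveI : Module.Finite Γ(Y, V) Γ(X, f ⁻¹ᵁ V) := IsFinite.finite_app f V hV
  have : Algebra.IsIntegral Γ(Y, V) Γ(X, f ⁻¹ᵁ V) := Algebra.IsIntegral.of_finite _ _
  have : Algebra.IsAlgebraic Γ(Y, V) Γ(X, f ⁻¹ᵁ V) := Algebra.IsIntegral.isAlgebraic
  have : FaithfulSMul Γ(Y, V) Γ(X, f ⁻¹ᵁ V) := by
    refine (faithfulSMul_iff_algebraMap_injective _ _).2 ?_
    refine Function.Injective.of_comp (f := X.presheaf.germ (f ⁻¹ᵁ V) _ hmem) ?_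
    refine (injective_iff_map_eq_zero ((X.presheaf.germ (f ⁻¹ᵁ V) _ hmem).hom.comp (f.app V).hom)).2 ?_
    intro z hz
    have hz' : f.stalkMap (genericPoint X) (Y.presheaf.germ V _ hmem z) = 0 :=
      (Scheme.Hom.germ_stalkMap_apply f V (genericPoint X) hmem z).trans hz
    let : Field K0 :=
      (show IsField (Y.presheaf.stalk (f (genericPoint X))) by
        rw [hη]; exact Field.toIsField Y.functionField).toField
    have h0 : Y.presheaf.germ V _ hmem z = 0 :=
      (map_eq_zero_iff _ (f.stalkMap (genericPoint X)).hom.injective).1 hz'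
    exact IsFractionRing.injective Γ(Y, V) K0 (h0.trans (map_zero _).symm)
  have h2 : Module.finrank K0 L = Module.finrank Γ(Y, V) Γ(X, f ⁻¹ᵁ V) :=
    congrArg Cardinal.toNat (Algebra.IsAlgebraic.rank_of_isFractionRing Γ(Y, V) K0 Γ(X, f ⁻¹ᵁ V) L)
  rw [← h2]
  let := (f.residueFieldMap (genericPoint X)).hom.toAlgebra
  exact Algebra.finrank_eq_of_equiv_equiv (RingEquiv.ofBijective _ (S11584.bijective_residue hη))
    (RingEquiv.ofBijective _ (S11584.bijective_residue (Y := X) rfl)) (RingHom.ext fun z =>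
      congr($(Scheme.residue_residueFieldMap f (genericPoint X)) z))

end Groth.Agent.CurveFinMap
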