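import Groth.Agent.CurveFinMap.Degree
import Groth.Agent.CurveGenusCmp.Birational
import Groth.Agent.Lib.CurvePsi

/-! Degrees are unchanged by maps of curves which are isomorphisms over a dense open. -/

noncomputable section

set_option linter.style.haveILetI false
set_option linter.unusedSectionVars false
set_option backward.isDefEq.respectTransparency false
set_option backward.isDefEq.respectTransparency.types false

universe u

open CategoryTheory CategoryTheory.Limits AlgebraicGeometry TopologicalSpace Opposite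

namespace Groth.Agent.CurveFinMap

variable {X Y : Scheme.{u}} (f : X ⟶ Y)

theorem isIso_stalk_unitMap {U : Y.Opens} (hfU : IsIso (f ∣_ U)) {y : Y} (hy : y ∈ U) :
    IsIso ((DerSch.stalkFunctor Y y).map (CurveGenusCmp.unitMap f)) := by
  let M := (Coh.push f).obj (Coh.structureModule X)
  let a := CurveGenusCmp.unitMap f
  have hb : ∀ W : Y.Opens, W ≤ U → Function.Bijective (a.app W) := fun W hW => by
    haveI : IsIso (f.app W) := by
      haveI := hfU
      haveI : IsIso ((f ∣_ U).app (U.ι ⁻¹ᵁ W)) := inferInstance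
      have e : U.ι ''ᵁ (U.ι ⁻¹ᵁ W) = W := by
        rw [Scheme.Hom.image_preimage_eq_opensRange_inf, Scheme.Opens.opensRange_ι, inf_eq_right.2 hW]
      have h := morphismRestrict_app f U (U.ι ⁻¹ᵁ W)
      rw [h] at this
      haveI : IsIso (f.app (U.ι ''ᵁ (U.ι ⁻¹ᵁ W))) :=
        @IsIso.of_isIso_comp_right _ _ _ _ _ _ _ inferInstance this
      rwa [e] at this
    have hfun : ⇑(a.app W) = fun r => (show Γ(M, W) from f.app W r) := funext fun r =>
      CurveGenusCmp.unitMap_app f r
    rw [hfun]
    exact ConcreteCategory.bijective_of_isIso (f.app W)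
  rw [ConcreteCategory.isIso_iff_bijective]
  have hg : ∀ (W : Y.Opens) (hyW : y ∈ W) (r : Γ(Coh.structureModule Y, W)),
      (DerSch.stalkFunctor Y y).map a ((Coh.structureModule Y).presheaf.germ W y hyW r) =
        M.presheaf.germ W y hyW (a.app W r) := fun W hyW r =>
    TopCat.Presheaf.stalkFunctor_map_germ_apply W y hyW ((Scheme.Modules.toPresheaf Y).map a) r
  refine ⟨fun p q hpq => ?_, fun z => ?_⟩
  · obtain ⟨W, hyW, r, rfl⟩ := (Coh.structureModule Y).presheaf.germ_exist (p : (Coh.structureModule Y).presheaf.stalk y)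
    obtain ⟨W', hyW', r', rfl⟩ := (Coh.structureModule Y).presheaf.germ_exist (q : (Coh.structureModule Y).presheaf.stalk y)
    have h := ((hg W hyW r).symm.trans hpq).trans (hg W' hyW' r')
    obtain ⟨T, hyT, i, j, hT⟩ := M.presheaf.germ_eq y hyW hyW' _ _ h
    let T' := T ⊓ U
    have hT' : a.app T' ((Coh.structureModule Y).presheaf.map (homOfLE (inf_le_left.trans i.le : T' ≤ W)).op r) =
        a.app T' ((Coh.structureModule Y).presheaf.map (homOfLE (inf_le_left.trans j.le : T' ≤ W')).op r') := by
      have hn : ∀ {A : Y.Opens} (s : Γ(Coh.structureModule Y, A)) (hA : T' ≤ A),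
          a.app T' ((Coh.structureModule Y).presheaf.map (homOfLE hA).op s) =
            M.presheaf.map (homOfLE hA).op (a.app A s) := fun s hA =>
        NatTrans.naturality_apply ((Scheme.Modules.toPresheaf Y).map a) (homOfLE hA).op s
      rw [hn, hn]
      have h2 := congrArg (M.presheaf.map (homOfLE (inf_le_left : T' ≤ T)).op) hT
      rw [QCoh.map_map, QCoh.map_map] at h2
      exact h2
    have h3 := (hb T' inf_le_right).1 hT'
    have h4 := congrArg ((Coh.structureModule Y).presheaf.germ T' y ⟨hyT, hy⟩) h3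
    rwa [(Coh.structureModule Y).presheaf.germ_res_apply, (Coh.structureModule Y).presheaf.germ_res_apply] at h4
  · obtain ⟨W, hyW, r, rfl⟩ := M.presheaf.germ_exist (z : M.presheaf.stalk y)
    obtain ⟨s, hs⟩ := (hb (W ⊓ U) inf_le_right).2 (M.presheaf.map (homOfLE (inf_le_left : W ⊓ U ≤ W)).op r)
    refine ⟨(Coh.structureModule Y).presheaf.germ (W ⊓ U) y ⟨hyW, hy⟩ s, ?_⟩
    refine ((hg _ _ s).trans (congrArg (M.presheaf.germ (W ⊓ U) y ⟨hyW, hy⟩) hs)).trans ?_
    exact M.presheaf.germ_res_apply _ _ _ r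

variable (k : Type u) [Field k] [X.Over (Spec (CommRingCat.of k))] [Y.Over (Spec (CommRingCat.of k))]
  [IsProper (X ↘ Spec (CommRingCat.of k))] [IsProper (Y ↘ Spec (CommRingCat.of k))]

include k in
theorem deg_pullback_birational (hdim : topologicalKrullDim Y ≤ 1)
    (hf : f ≫ (Y ↘ Spec (CommRingCat.of k)) = X ↘ Spec (CommRingCat.of k)) (U : Y.Opens)
    (hU : Dense (U : Set Y)) (hU' : Dense ((f ⁻¹ᵁ U : X.Opens) : Set X)) (hfU : IsIso (f ∣_ U))
    {E : Y.Modules} {n : ℕ} (hE : FlatMod.IsFinLocFreeOfRank n E) :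
    Curv2.deg k X ((Scheme.Modules.pullback f).obj E) n = Curv2.deg k Y E n := by
  haveI := CurveCohLib.isNoetherian_of_proper (k := k) (X := Y)
  haveI := CurveCohLib.isNoetherian_of_proper (k := k) (X := X)
  haveI : IsProper (f ≫ (Y ↘ Spec (CommRingCat.of k))) := hf ▸ inferInstance
  haveI : IsProper f := IsProper.of_comp f (Y ↘ Spec (CommRingCat.of k))
  haveI : IsFinite f := CurveGenusCmp.isFinite_of_birational (Y ↘ Spec (CommRingCat.of k)) f hdim U hU' hfU
  have hEf : FlatMod.IsFinLocFree E := fun y => let ⟨W, hy, he⟩ := hE y; ⟨W, n, hy, he⟩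
  have hO := QCoh.isQCoh_structureModule (X := X)
  have he : ∀ M : X.Modules, Coh.IsQCoh M →
      Curv2.euler k X M = Curv2.euler k Y ((Scheme.Modules.pushforward f).obj M) := fun M hM =>
    finsum_congr fun i => by
      obtain ⟨e⟩ := PnCoh.exists_linearEquiv_push k f hf hM i
      rw [e.finrank_eq]
  haveI : EnoughInjectives X.Modules := inferInstance
  obtain ⟨φ⟩ := S0927.result f (Coh.structureModule X) E hEf 0
  let ψ := (Scheme.Modules.pushforward f).rightDerivedZeroIsoSelf
  let a : (DCoh.tensorBi.obj E).obj ((Scheme.Modules.pushforward f).obj (Coh.structureModule X)) ≅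
      (Scheme.Modules.pushforward f).obj ((Scheme.Modules.pullback f).obj E) :=
    (DCoh.tensorBi.obj E).mapIso (ψ.app (Coh.structureModule X)).symm ≪≫ φ ≪≫ ψ.app _ ≪≫
      (Scheme.Modules.pushforward f).mapIso (KFlatLib.tensorUnitIso ((Scheme.Modules.pullback f).obj E))
  have h1 := (CurvePsi.eulerPsi k hE).eq_of_map QCoh.isCoh_structureModule'
    (QCoh.isCoh_pushforward_finite f QCoh.isCoh_structureModule') (CurveGenusCmp.unitMap f) fun y hy =>
      isIso_stalk_unitMap f hfU (not_not.1 fun h => hy (CurveGenusCmp.isClosed_of_notMem hdim hU h))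
  have hEq : Coh.IsQCoh ((Scheme.Modules.pullback f).obj E) :=
    QCoh.isQCoh_pullback f (QCoh.isQCoh_of_isFinLocFree hEf)
  change Curv2.euler k Y ((DCoh.tensorBi.obj E).obj (Coh.structureModule Y)) -
      n * Curv2.euler k Y (Coh.structureModule Y) =
    Curv2.euler k Y ((DCoh.tensorBi.obj E).obj ((Scheme.Modules.pushforward f).obj (Coh.structureModule X))) -
      n * Curv2.euler k Y ((Scheme.Modules.pushforward f).obj (Coh.structureModule X)) at h1
  rw [Euler.euler_congr k (KFlatLib.tensorUnitIso E), Euler.euler_congr k a, ← he _ hEq, ← he _ hO] at h1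
  exact h1.symm

end Groth.Agent.CurveFinMap
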