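import Groth.Agent.CurveFinMap.Components
import Groth.Agent.CurveFinMap.Birational
import Groth.Agent.CycLib.Supp
import Groth.Agent.CycLib.StalkSES
import Groth.Agent.H23.ClosedPushLen
import Groth.Agent.H23.RedSub
import Groth.Agent.KRRReg.LamPull

/-!
The degree is the sum of the degrees on the components, counted with multiplicity.
-/

noncomputable section

universe u

set_option linter.style.haveILetI false
set_option linter.unusedSectionVars false
set_option backward.isDefEq.respectTransparency false
set_option backward.isDefEq.respectTransparency.types false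

open CategoryTheory CategoryTheory.Limits AlgebraicGeometry TopologicalSpace Opposite

namespace Groth.Agent.CurveFinMap

variable (k : Type u) [Field k] {X : Scheme.{u}} [X.Over (Spec (CommRingCat.of k))]
  [IsProper (X ↘ Spec (CommRingCat.of k))]

theorem withBot_eq_one {d : WithBot ℕ∞} (h1 : d ≤ 1) (h0 : ¬ d ≤ 0) : d = 1 := by
  induction d using WithBot.recBotCoe with
  | bot => exact absurd bot_le h0
  | coe a =>
    refine le_antisymm h1 (WithBot.coe_le_coe.2 ?_)
    exact ENat.one_le_iff_ne_zero.2 fun h => h0 (by rw [h]; rfl)

theorem not_isClosed_generic {T : Set X} {ξ : X} (hξ : IsGenericPoint ξ T) (h : topologicalKrullDim T = 1) :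
    ¬ IsClosed ({ξ} : Set X) := fun hc => by
  have hT : T = {ξ} := by rw [← hξ.def, hc.closure_eq]
  haveI : Subsingleton ↥T := ⟨fun a b => Subtype.ext ((Set.mem_singleton_iff.1 (hT.subset a.2)).trans
    (Set.mem_singleton_iff.1 (hT.subset b.2)).symm)⟩
  have : Subsingleton (IrreducibleCloseds ↥T) := ⟨fun A B => IrreducibleCloseds.ext
    ((Subsingleton.eq_univ_of_nonempty A.2.1).trans (Subsingleton.eq_univ_of_nonempty B.2.1).symm)⟩
  have h0 : topologicalKrullDim ↥T ≤ 0 := Order.krullDim_nonpos_iff_forall_isMax.2 fun A B _ =>
    (Subsingleton.elim B A).le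
  rw [h] at h0
  exact absurd h0 (by decide)

theorem dim_eq_one (hdim : topologicalKrullDim X ≤ 1) {T : Set X} (hT : IsClosed T) {ξ : X}
    (hξ : IsGenericPoint ξ T) (h : ¬ IsClosed ({ξ} : Set X)) : topologicalKrullDim T = 1 :=
  withBot_eq_one ((Topology.IsInducing.subtypeVal.topologicalKrullDim_le).trans hdim) fun h0 => h (by
    rw [← Euler.closure_eq_self_of_dim_le_zero hT h0 hξ.mem]
    exact isClosed_closure)

theorem eq_of_specializes_generic {T : Set X} (hT : T ∈ irreducibleComponents (X : Type u)) {ξ : X}
    (hξ : IsGenericPoint ξ T) {y : X} (h : y ⤳ ξ) : y = ξ := by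
  have hle : T ⊆ closure {y} := hξ.def ▸ specializes_iff_closure_subset.1 h
  have he : closure {y} = T := (hT.eq_of_le isIrreducible_singleton.closure hle).symm
  exact (isGenericPoint_def.2 he).eq hξ

theorem specializes_of_mem {T : Set X} {ξ x : X} (hξ : IsGenericPoint ξ T) (hx : x ∈ T) : ξ ⤳ x :=
  hξ.specializes hx

/-- The generic point of a component. -/
abbrev gpt (C : irreducibleComponents (X : Type u)) : X := C.2.1.genericPoint

theorem isGenericPoint_gpt (C : irreducibleComponents (X : Type u)) : IsGenericPoint (gpt C) (C.1 : Set X) :=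
  C.2.1.isGenericPoint_genericPoint (isClosed_of_mem_irreducibleComponents C.1 C.2)

variable [IsNoetherian X]

include k in
theorem deg_eq_sum (hdim : topologicalKrullDim X ≤ 1) {E : X.Modules} {n : ℕ}
    (hE : FlatMod.IsFinLocFreeOfRank n E) :
    Curv2.deg k X E n = ∑ᶠ C : irreducibleComponents (X : Type u),
      (if topologicalKrullDim (C.1 : Set X) = 1 then
        ((Module.length (X.presheaf.stalk (gpt C)) (X.presheaf.stalk (gpt C))).toNat : ℤ) *
          @Curv2.deg k _ (X.irreducibleComponentIdeal C.1 C.2).radical.subscheme
            ⟨(X.irreducibleComponentIdeal C.1 C.2).radical.subschemeι ≫ (X ↘ Spec (CommRingCat.of k))⟩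
            ((Scheme.Modules.pullback (X.irreducibleComponentIdeal C.1 C.2).radical.subschemeι).obj E) n
      else 0) := by
  classical
  haveI : Finite (irreducibleComponents (X : Type u)) :=
    (NoetherianSpace.finite_irreducibleComponents).to_subtype
  letI := Fintype.ofFinite (irreducibleComponents (X : Type u))
  let D : irreducibleComponents (X : Type u) → ℤ := fun C =>
    @Curv2.deg k _ (X.irreducibleComponentIdeal C.1 C.2).radical.subscheme
      ⟨(X.irreducibleComponentIdeal C.1 C.2).radical.subschemeι ≫ (X ↘ Spec (CommRingCat.of k))⟩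
      ((Scheme.Modules.pullback (X.irreducibleComponentIdeal C.1 C.2).radical.subschemeι).obj E) n
  let len : X.Modules → X → ℕ∞ := fun F x => Module.length (X.presheaf.stalk x) (F.presheaf.stalk x)
  let φ : CurvePsi.Psi X :=
    { toFun := fun F => ∑ C : irreducibleComponents (X : Type u),
        if topologicalKrullDim (C.1 : Set X) = 1 then ((len F (gpt C)).toNat : ℤ) * D C else 0
      congr := fun {M N} e => Finset.sum_congr rfl fun C _ => by
        rw [show len M (gpt C) = len N (gpt C) from
          ((DerSch.stalkFunctor X (gpt C)).mapIso e).toLinearEquiv.length_eq]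
      add := fun {A B C'} f g w hS hA hB hC => by
        rw [← Finset.sum_add_distrib]
        refine Finset.sum_congr rfl fun C _ => ?_
        split_ifs with hd
        · have e : len B (gpt C) = len A (gpt C) + len C' (gpt C) :=
            CycLib.length_stalk_shortExact hS hA.1 hB.1 hC.1 (gpt C)
          have hfin : len B (gpt C) < ⊤ := CycLib.length_stalk_lt_top B hB fun y _ hy =>
            eq_of_specializes_generic C.2 (isGenericPoint_gpt C) hy
          rw [e, WithTop.add_lt_top] at hfin
          rw [e, ENat.toNat_add hfin.1.ne hfin.2.ne]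
          push_cast
          ring
        · simp
      zero := fun {M} _ h0 => Finset.sum_eq_zero fun C _ => by
        split_ifs with hd
        · haveI : Subsingleton (M.presheaf.stalk (gpt C)) :=
            not_not.1 fun h => not_isClosed_generic (isGenericPoint_gpt C) hd (h0 _ h)
          rw [show len M (gpt C) = 0 from Module.length_eq_zero]
          simp
        · rfl }
  have key := psi_ext k hdim (CurvePsi.eulerPsi k hE) φ (fun {Z} i _ _ hZ => ?_)
    (QCoh.isCoh_structureModule' (X := X))
  · rw [eulerPsi_structure k hE] at key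
    rw [key, finsum_eq_sum_of_fintype]
    refine Finset.sum_congr rfl fun C _ => ?_
    rw [show len (Coh.structureModule X) (gpt C) = _ from H23.ClosedPushLen.length_structureModule (gpt C)]
  let η := i (genericPoint Z)
  have hrange : Set.range i = closure ({η} : Set X) := by
    rw [((genericPoint_spec Z).image i.continuous).def, Set.image_univ,
      i.isClosedEmbedding.isClosed_range.closure_eq]
  have hG : Coh.IsCoh ((Coh.push i).obj (Coh.structureModule Z)) := QCoh.isCoh_push_structure i
  by_cases hc : IsClosed ({η} : Set X)
  · have h0 : ∀ x ∈ CohB1.support ((Coh.push i).obj (Coh.structureModule Z)), IsClosed ({x} : Set X) :=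
      fun x hx => by
        have hxr := QCoh.support_push_subset i QCoh.isQCoh_structureModule hx
        rw [hrange, hc.closure_eq] at hxr
        exact Set.mem_singleton_iff.1 hxr ▸ hc
    rw [(CurvePsi.eulerPsi k hE).zero hG h0, φ.zero hG h0]
  let C₀ : irreducibleComponents (X : Type u) :=
    ⟨irreducibleComponent η, irreducibleComponent_mem_irreducibleComponents η⟩
  have hgη : gpt C₀ = η := by
    by_contra hne
    exact hc (CurvePsi.isClosed_of_dim_le_one hdim
      ((isGenericPoint_gpt C₀).specializes mem_irreducibleComponent) (Ne.symm hne))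
  have hC₀ : (C₀.1 : Set X) = Set.range i := by
    rw [hrange, ← hgη]
    exact (isGenericPoint_gpt C₀).def.symm
  have hd₀ : topologicalKrullDim (C₀.1 : Set X) = 1 :=
    dim_eq_one hdim (isClosed_of_mem_irreducibleComponents C₀.1 C₀.2) (isGenericPoint_gpt C₀) (hgη.symm ▸ hc)
  have hsum : φ.toFun ((Coh.push i).obj (Coh.structureModule Z)) = D C₀ := by
    show (∑ C : irreducibleComponents (X : Type u), _) = D C₀
    rw [Finset.sum_eq_single C₀]
    · rw [if_pos hd₀]
      have h1 : len ((Coh.push i).obj (Coh.structureModule Z)) (gpt C₀) = 1 := by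
        rw [hgη]
        refine (H23.ClosedPushLen.length_stalk i (Coh.structureModule Z) (genericPoint Z)).trans ?_
        rw [H23.ClosedPushLen.length_structureModule]
        letI := (CurveBundle.isField_stalk_generic (X := Z)).toField
        exact Module.length_eq_one _ _
      rw [h1]
      simp
    · intro C _ hne
      split_ifs with hd
      · haveI := H23.ClosedPushLen.subsingleton_stalk i (Coh.structureModule Z) (y := gpt C) fun hmem =>
          hne (Subtype.ext (by
            have h1 : gpt C ∈ C₀.1 := hC₀.ge hmem
            have h2 : gpt C = gpt C₀ :=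
              (eq_of_specializes_generic C.2 (isGenericPoint_gpt C) ((isGenericPoint_gpt C₀).specializes h1)).symm
            rw [← (isGenericPoint_gpt C).def, ← (isGenericPoint_gpt C₀).def, h2]))
        rw [show len ((Coh.push i).obj (Coh.structureModule Z)) (gpt C) = 0 from Module.length_eq_zero]
        simp
      · rfl
    · exact fun h => absurd (Finset.mem_univ C₀) h
  rw [hsum]
  letI : Z.Over (Spec (CommRingCat.of k)) := ⟨i ≫ (X ↘ Spec (CommRingCat.of k))⟩
  haveI : IsProper (Z ↘ Spec (CommRingCat.of k)) :=
    inferInstanceAs (IsProper (i ≫ (X ↘ Spec (CommRingCat.of k))))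
  rw [eulerPsi_push k i rfl hE]
  let I := (X.irreducibleComponentIdeal C₀.1 C₀.2).radical
  letI : I.subscheme.Over (Spec (CommRingCat.of k)) := ⟨I.subschemeι ≫ (X ↘ Spec (CommRingCat.of k))⟩
  haveI : IsProper (I.subscheme ↘ Spec (CommRingCat.of k)) :=
    inferInstanceAs (IsProper (I.subschemeι ≫ (X ↘ Spec (CommRingCat.of k))))
  haveI : IsReduced I.subscheme := by
    show IsReduced (X.irreducibleComponentIdeal C₀.1 C₀.2).radical.subscheme
    rw [← Scheme.IdealSheafData.vanishingIdeal_support]
    infer_instance
  obtain ⟨e, he⟩ := H23.RedSub.exists_iso_of_range_eq i I.subschemeι (by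
    rw [Scheme.IdealSheafData.range_subschemeι, Scheme.IdealSheafData.support_radical]
    exact hC₀.symm.trans rfl)
  have hW : topologicalKrullDim I.subscheme ≤ 1 :=
    (I.subschemeι.isClosedEmbedding.isInducing.topologicalKrullDim_le).trans hdim
  refine Eq.trans ?_ (deg_pullback_birational e.hom k hW (by
      show e.hom ≫ I.subschemeι ≫ (X ↘ Spec (CommRingCat.of k)) = i ≫ (X ↘ Spec (CommRingCat.of k))
      rw [← Category.assoc, he]) ⊤ (by simp) (by simp) inferInstance
    (E := (Scheme.Modules.pullback I.subschemeι).obj E) (n := n)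
    (KRRReg.isFinLocFreeOfRank_pullback I.subschemeι hE))
  refine (CurveRR.deg_congr k ?_ n).symm
  exact (Scheme.Modules.pullbackComp e.hom I.subschemeι).app E ≪≫ eqToIso (by rw [he])

end Groth.Agent.CurveFinMap
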