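import Groth.Agent.CurveFinMap.Det
import Groth.Agent.CurveFinMap.Degree
import Groth.Agent.PicGlue.AmpleDimOne
import Groth.Agent.AmpleX.Generated
import Groth.Agent.Lib.CurveRR

/-!
Degrees on proper schemes of dimension at most one are determined on integral closed subschemes;
the degree of a bundle is the degree of its determinant.
-/

noncomputable section

universe u

set_option linter.style.haveILetI false
set_option linter.unusedSectionVars false
set_option backward.isDefEq.respectTransparency false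
set_option backward.isDefEq.respectTransparency.types false

open CategoryTheory CategoryTheory.Limits AlgebraicGeometry TopologicalSpace Opposite

namespace Groth.Agent.CurveFinMap

variable (k : Type u) [Field k] {X : Scheme.{u}} [X.Over (Spec (CommRingCat.of k))]
  [IsProper (X ↘ Spec (CommRingCat.of k))]

include k in
/-- Additive functions agreeing on integral closed subschemes agree. -/
theorem psi_ext [IsNoetherian X] (hdim : topologicalKrullDim X ≤ 1) (ψ φ : CurvePsi.Psi X)
    (h : ∀ {Z : Scheme.{u}} (i : Z ⟶ X) [IsClosedImmersion i] [IsIntegral Z], topologicalKrullDim Z ≤ 1 →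
      ψ.toFun ((Coh.push i).obj (Coh.structureModule Z)) = φ.toFun ((Coh.push i).obj (Coh.structureModule Z)))
    {F : X.Modules} (hF : Coh.IsCoh F) : ψ.toFun F = φ.toFun F := by
  refine QCoh.devissage (fun M => ψ.toFun M = φ.toFun M) ?_ ?_ Set.univ ?_ ?_ ?_ hF (Set.subset_univ _)
  · rintro M N ⟨e⟩ h'
    rw [← ψ.congr e, ← φ.congr e, h']
  · intro M h'
    rw [ψ.eq_zero_of_isZero (QCoh.isCoh_isZero h' hF) h', φ.eq_zero_of_isZero (QCoh.isCoh_isZero h' hF) h']
  · intro S hS h₁ h₂ h₃ _ p₁ p₃
    rw [ψ.add S.f S.g S.zero hS h₁ h₂ h₃, φ.add S.f S.g S.zero hS h₁ h₂ h₃, p₁, p₃]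
  · intro ξ _ _ Z i _ _ _
    exact h i ((i.isClosedEmbedding.isInducing.topologicalKrullDim_le).trans hdim)
  · intro S hS h₁ h₂ h₃ _ p₂ p₃
    rw [ψ.add S.f S.g S.zero hS h₁ h₂ h₃, φ.add S.f S.g S.zero hS h₁ h₂ h₃] at p₂
    linarith

include k in
/-- The value of `eulerPsi` on a closed subscheme is the degree there. -/
theorem eulerPsi_push {Z : Scheme.{u}} [Z.Over (Spec (CommRingCat.of k))] (i : Z ⟶ X) [IsClosedImmersion i]
    (hi : i ≫ (X ↘ Spec (CommRingCat.of k)) = Z ↘ Spec (CommRingCat.of k)) {E : X.Modules} {n : ℕ}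
    (hE : FlatMod.IsFinLocFreeOfRank n E) :
    (CurvePsi.eulerPsi k hE).toFun ((Coh.push i).obj (Coh.structureModule Z)) =
      Curv2.deg k Z ((Scheme.Modules.pullback i).obj E) n := by
  haveI : IsProper (Z ↘ Spec (CommRingCat.of k)) := hi ▸ inferInstance
  have hEf : FlatMod.IsFinLocFree E := fun y => let ⟨W, hy, he⟩ := hE y; ⟨W, n, hy, he⟩
  have he : ∀ M : Z.Modules, Coh.IsQCoh M →
      Curv2.euler k Z M = Curv2.euler k X ((Scheme.Modules.pushforward i).obj M) := fun M hM =>
    finsum_congr fun j => by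
      obtain ⟨e⟩ := PnCoh.exists_linearEquiv_push k i hi hM j
      rw [e.finrank_eq]
  haveI : EnoughInjectives Z.Modules := inferInstance
  obtain ⟨φ⟩ := S0927.result i (Coh.structureModule Z) E hEf 0
  let ψ := (Scheme.Modules.pushforward i).rightDerivedZeroIsoSelf
  let a : (DCoh.tensorBi.obj E).obj ((Scheme.Modules.pushforward i).obj (Coh.structureModule Z)) ≅
      (Scheme.Modules.pushforward i).obj ((Scheme.Modules.pullback i).obj E) :=
    (DCoh.tensorBi.obj E).mapIso (ψ.app (Coh.structureModule Z)).symm ≪≫ φ ≪≫ ψ.app _ ≪≫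
      (Scheme.Modules.pushforward i).mapIso (KFlatLib.tensorUnitIso ((Scheme.Modules.pullback i).obj E))
  show Curv2.euler k X ((DCoh.tensorBi.obj E).obj ((Scheme.Modules.pushforward i).obj (Coh.structureModule Z))) -
      n * Curv2.euler k X ((Scheme.Modules.pushforward i).obj (Coh.structureModule Z)) = _
  rw [Euler.euler_congr k a, ← he _ (QCoh.isQCoh_pullback i (QCoh.isQCoh_of_isFinLocFree hEf)),
    ← he _ QCoh.isQCoh_structureModule]
  rfl

include k in
theorem eulerPsi_structure {E : X.Modules} {n : ℕ} (hE : FlatMod.IsFinLocFreeOfRank n E) :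
    (CurvePsi.eulerPsi k hE).toFun (Coh.structureModule X) = Curv2.deg k X E n := by
  show Curv2.euler k X ((DCoh.tensorBi.obj E).obj (Coh.structureModule X)) -
      n * Curv2.euler k X (Coh.structureModule X) = _
  rw [Euler.euler_congr k (KFlatLib.tensorUnitIso E)]
  rfl

theorem isFinLocFreeOfRank_det {E : X.Modules} {n : ℕ} (hE : FlatMod.IsFinLocFreeOfRank n E) :
    FlatMod.IsFinLocFreeOfRank 1 (ExtPowSh.L E n) := by
  simpa only [Nat.choose_self] using ExtPowSh.isFinLocFreeOfRank (i := n) hE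

theorem isFinLocFreeOfRank_iso {M N : X.Modules} {n : ℕ} (e : M ≅ N) (h : FlatMod.IsFinLocFreeOfRank n M) :
    FlatMod.IsFinLocFreeOfRank n N := fun x =>
  let ⟨U, hx, ⟨l⟩⟩ := h x
  ⟨U, hx, ⟨(Scheme.Modules.restrictFunctor U.ι).mapIso e.symm ≪≫ l⟩⟩

variable [IsIntegral X]

include k in
theorem deg_tensorPow' (hdim : topologicalKrullDim X ≤ 1) {A : X.Modules} (hA : PicF.IsInvertible A) :
    ∀ m : ℕ, Curv2.deg k X (CohB1.tensorPow A m) 1 = m * Curv2.deg k X A 1
  | 0 => by
    show Curv2.euler k X (Coh.structureModule X) - ((1 : ℕ) : ℤ) * Curv2.euler k X (Coh.structureModule X) = _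
    push_cast
    ring
  | m + 1 => by
    haveI := CurveCohLib.isNoetherian_of_proper (k := k) (X := X)
    show Curv2.deg k X (CohB1.tensorMod (CohB1.tensorPow A m) A) 1 = _
    have h := CurvePsi.deg_tensor_locFree k hdim
      (InvEnd.isFinLocFreeOfRank_one (H23.PicMul.isInvertible_tensorPow hA m)) (InvEnd.isFinLocFreeOfRank_one hA)
    rw [show (1 * 1 : ℕ) = 1 from rfl, deg_tensorPow' hdim hA m] at h
    refine h.trans ?_
    push_cast
    ring

include k in
/-- On an integral proper curve a bundle has the degree of its determinant. -/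
theorem deg_eq_det (hdim : topologicalKrullDim X ≤ 1) {E : X.Modules} {n : ℕ}
    (hE : FlatMod.IsFinLocFreeOfRank n E) :
    Curv2.deg k X E n = Curv2.deg k X (ExtPowSh.L E n) 1 := by
  haveI := CurveCohLib.isNoetherian_of_proper (k := k) (X := X)
  haveI : X.IsSeparated := ⟨by
    rw [← terminal.comp_from (X ↘ Spec (CommRingCat.of k))]
    infer_instance⟩
  have hEf : FlatMod.IsFinLocFree E := fun y => let ⟨W, hy, he⟩ := hE y; ⟨W, n, hy, he⟩
  have hq := QCoh.isQCoh_of_isFinLocFree hEf
  obtain ⟨A, hA⟩ := PicGlue.exists_isAmple_of_dim_le_one hdim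
  obtain ⟨m₀, hm₀⟩ := AmpleX.eventually_generated hA hq (QCoh.isFT_of_isFP (QCoh.isFP_of_isFinLocFree hEf))
  obtain ⟨G, e, ι, t, ht⟩ := hm₀ m₀ le_rfl
  let V := CohB1.tensorPow A m₀
  have hV : PicF.IsInvertible V := H23.PicMul.isInvertible_tensorPow hA.1 m₀
  have hV1 := InvEnd.isFinLocFreeOfRank_one hV
  have hVf : FlatMod.IsFinLocFree V := fun y => let ⟨W, hy, he⟩ := hV1 y; ⟨W, 1, hy, he⟩
  have hT : FlatMod.IsFinLocFreeOfRank n (ExtPowSh.tens E V) := by
    have h := CurveBundle.isFinLocFreeOfRank_rk (KFlatLib.isFinLocFree_tensor hEf hVf)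
    have hr : CurveBundle.rk ((DCoh.tensorBi.obj E).obj V) = n := by
      letI := (CurveBundle.isField_stalk_generic (X := X)).toField
      show Module.finrank (X.presheaf.stalk (genericPoint X))
        (((DCoh.tensorBi.obj E).obj V).presheaf.stalk (genericPoint X)) = n
      refine (LinearEquiv.finrank_eq
        ((KFlatLib.stalkTensorIso (genericPoint X) E V).symm.toLinearEquiv :
          ((DCoh.tensorBi.obj E).obj V).presheaf.stalk (genericPoint X) ≃ₗ[X.presheaf.stalk (genericPoint X)]
            TensorProduct (X.presheaf.stalk (genericPoint X)) (E.presheaf.stalk (genericPoint X))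
              (V.presheaf.stalk (genericPoint X)))).trans ?_
      show Module.finrank (X.presheaf.stalk (genericPoint X)) (TensorProduct (X.presheaf.stalk (genericPoint X))
        (E.presheaf.stalk (genericPoint X)) (V.presheaf.stalk (genericPoint X))) = n
      rw [Module.finrank_tensorProduct]
      show CurveBundle.rk E * CurveBundle.rk V = n
      rw [CurveBundle.rk_eq hE, CurveBundle.rk_eq hV1, mul_one]
    rwa [hr] at h
  have hG : FlatMod.IsFinLocFreeOfRank n G := isFinLocFreeOfRank_iso e.symm hT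
  have h1 := deg_eq_det_of_generated k hdim hG t ht
  obtain ⟨e₂⟩ := ExtPowSh.nonempty_twist_iso E (L := V) n hq hV
  obtain ⟨e₁⟩ := ExtPowSh.nonempty_iso (ExtPowSh.isExtPow G n (QCoh.isQCoh_of_isFinLocFree
      fun y => let ⟨W, hy, he⟩ := hG y; ⟨W, n, hy, he⟩))
    (ExtPowSh.isExtPow_source_iso e.symm (ExtPowSh.isExtPow _ n (KFlatLib.isQCoh_tensor hq
      (ProjUPX.isQCoh_of_isInvertible hV))))
  have h2 := CurvePsi.deg_tensor_locFree k hdim hE hV1
  have h3 := CurvePsi.deg_tensor_locFree k hdim (isFinLocFreeOfRank_det hE)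
    (InvEnd.isFinLocFreeOfRank_one (H23.PicMul.isInvertible_tensorPow hV n))
  rw [mul_one] at h2
  rw [show (1 * 1 : ℕ) = 1 from rfl, deg_tensorPow' k hdim hV n] at h3
  rw [CurveRR.deg_congr k e n, CurveRR.deg_congr k (e₁ ≪≫ e₂) 1] at h1
  change Curv2.deg k X ((DCoh.tensorBi.obj E).obj V) n =
    Curv2.deg k X ((DCoh.tensorBi.obj (ExtPowSh.L E n)).obj (CohB1.tensorPow V n)) 1 at h1
  rw [h2, h3] at h1
  push_cast at h1
  linarith

end Groth.Agent.CurveFinMap
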