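import Groth.Agent.CurveFinMap.DetAlg
import Groth.Agent.Lib.CurvePsi
import Groth.Agent.ExtPowSh.Twist
import Groth.Agent.ExtPowSh.Loc

/-!
On a proper integral curve a generated bundle has the degree of its determinant.
-/

noncomputable section

universe u

set_option linter.style.haveILetI false
set_option linter.unusedSectionVars false
set_option backward.isDefEq.respectTransparency false
set_option backward.isDefEq.respectTransparency.types false

open CategoryTheory CategoryTheory.Limits AlgebraicGeometry TopologicalSpace Opposite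

namespace Groth.Agent.CurveFinMap

variable (k : Type u) [Field k] {X : Scheme.{u}} [X.Over (Spec (CommRingCat.of k))]
  [IsProper (X ↘ Spec (CommRingCat.of k))]

include k in
/-- The cokernel of a system of sections independent at every point. -/
theorem exists_quot {G : X.Modules} (hG : Coh.IsCoh G) :
    ∀ {n : ℕ} (s : Fin n → Γ(G, ⊤)),
      (∀ x : X, LinearIndependent (X.presheaf.stalk x) fun i => G.presheaf.germ ⊤ x trivial (s i)) →
      ∃ (Q : X.Modules) (π : G ⟶ Q), Coh.IsCoh Q ∧
        Curv2.euler k X Q = Curv2.euler k X G - n * Curv2.euler k X (Coh.structureModule X) ∧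
        ∀ x : X, Function.Surjective (Algz.stalkMapₗ π x) ∧ LinearMap.ker (Algz.stalkMapₗ π x) =
          Submodule.span (X.presheaf.stalk x) (Set.range fun i => G.presheaf.germ ⊤ x trivial (s i)) := by
  haveI := CurveCohLib.isNoetherian_of_proper (k := k) (X := X)
  intro n
  induction n with
  | zero =>
    intro s _
    refine ⟨G, 𝟙 G, hG, by simp, fun x => ?_⟩
    have h1 : ∀ z, Algz.stalkMapₗ (𝟙 G) x z = z := fun z =>
      congr($((DerSch.stalkFunctor X x).map_id G) z)
    refine ⟨fun z => ⟨z, h1 z⟩, ?_⟩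
    rw [Set.range_eq_empty, Submodule.span_empty, LinearMap.ker_eq_bot']
    exact fun z hz => (h1 z).symm.trans hz
  | succ n ih =>
    intro s hs
    obtain ⟨Q, π, hQ, hχ, hπ⟩ := ih (fun i => s i.castSucc) fun x =>
      (hs x).comp Fin.castSucc (Fin.castSucc_injective n)
    let t : Γ(Q, ⊤) := π.app ⊤ (s (Fin.last n))
    let a := QCoh.homOfTop t
    have hπg : ∀ (x : X) (m : Γ(G, ⊤)), Algz.stalkMapₗ π x (G.presheaf.germ ⊤ x trivial m) =
        Q.presheaf.germ ⊤ x trivial (π.app ⊤ m) := fun x m =>
      TopCat.Presheaf.stalkFunctor_map_germ_apply ⊤ x trivial ((Scheme.Modules.toPresheaf X).map π) m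
    have ha : ∀ (x : X) (W : X.Opens) (hxW : x ∈ W) (r : Γ(X, W)),
        Algz.stalkMapₗ a x ((Coh.structureModule X).presheaf.germ W x hxW r) =
          X.presheaf.germ W x hxW r • Q.presheaf.germ ⊤ x trivial t := fun x W hxW r => by
      refine (TopCat.Presheaf.stalkFunctor_map_germ_apply W x hxW
        ((Scheme.Modules.toPresheaf X).map a) (show Γ(Coh.structureModule X, W) from r)).trans ?_
      refine (congrArg (Q.presheaf.germ W x hxW) (QCoh.homOfTop_app t r)).trans ?_
      refine (QCoh.germ_smul' Q (U := W) (hx := hxW) r _).trans ?_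
      exact congrArg (fun y => X.presheaf.germ W x hxW r • y) (Q.presheaf.germ_res_apply _ _ hxW t)
    have hinj : ∀ x, Function.Injective (Algz.stalkMapₗ a x) := fun x => by
      refine (injective_iff_map_eq_zero (Algz.stalkMapₗ a x)).2 fun z hz => ?_
      obtain ⟨W, hxW, r, rfl⟩ := TopCat.Presheaf.exists_germ_eq (Coh.structureModule X).presheaf z
      have hz' : Algz.stalkMapₗ π x (X.presheaf.germ W x hxW r •
          G.presheaf.germ ⊤ x trivial (s (Fin.last n))) = 0 := by
        rw [map_smul, hπg]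
        exact (ha x W hxW r).symm.trans hz
      rw [← LinearMap.mem_ker, (hπ x).2, Submodule.mem_span_range_iff_exists_fun] at hz'
      obtain ⟨c, hc⟩ := hz'
      have hli := Fintype.linearIndependent_iff.1 (hs x) (Fin.snoc c (-(X.presheaf.germ W x hxW r))) (by
        rw [Fin.sum_univ_castSucc]
        simp only [Fin.snoc_castSucc, Fin.snoc_last, neg_smul, hc, add_neg_cancel]) (Fin.last n)
      rw [Fin.snoc_last, neg_eq_zero] at hli
      obtain ⟨W', hxW', i₁, i₂, heq⟩ := X.presheaf.germ_eq x hxW hxW r 0 (hli.trans (map_zero _).symm)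
      rw [map_zero] at heq
      refine ((Coh.structureModule X).presheaf.germ_res_apply i₁ x hxW' r).symm.trans ?_
      exact (congrArg ((Coh.structureModule X).presheaf.germ W' x hxW') heq).trans (map_zero _)
    haveI : Mono a := by
      refine Preadditive.mono_of_isZero_kernel a (CurveCohLib.isZero_of_subsingleton_stalks fun x => ?_)
      haveI : Mono ((DerSch.stalkFunctor X x).map a) := (ModuleCat.mono_iff_injective _).2 (hinj x)
      exact ModuleCat.subsingleton_of_isZero
        ((isZero_kernel_of_mono ((DerSch.stalkFunctor X x).map a)).of_iso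
          (PreservesKernel.iso (DerSch.stalkFunctor X x) a))
    have hO : Coh.IsCoh (Coh.structureModule X) := QCoh.isCoh_structureModule'
    have hC : Coh.IsCoh (cokernel a) := QCoh.isCoh_cokernel hO.1 hQ a
    have hS := CurveSlope.shortExact_cokernel_of_mono a
    refine ⟨cokernel a, π ≫ cokernel.π a, hC, ?_, fun x => ?_⟩
    · have h := CurveBundle.euler_add' k _ _ _ hS hO hQ hC
      rw [hχ] at h
      push_cast
      linarith
    · have hx := hS.map_of_exact (DerSch.stalkFunctor X x)
      have hsurj : Function.Surjective (Algz.stalkMapₗ (cokernel.π a) x) :=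
        (ModuleCat.epi_iff_surjective _).1 hx.epi_g
      have hex : LinearMap.range (Algz.stalkMapₗ a x) = LinearMap.ker (Algz.stalkMapₗ (cokernel.π a) x) :=
        ShortComplex.Exact.moduleCat_range_eq_ker hx.exact
      have hcomp : Algz.stalkMapₗ (π ≫ cokernel.π a) x =
          (Algz.stalkMapₗ (cokernel.π a) x).comp (Algz.stalkMapₗ π x) :=
        LinearMap.ext fun z => congr($((DerSch.stalkFunctor X x).map_comp π (cokernel.π a)) z)
      have hrange : LinearMap.range (Algz.stalkMapₗ a x) =
          (Submodule.span (X.presheaf.stalk x) {G.presheaf.germ ⊤ x trivial (s (Fin.last n))}).map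
            (Algz.stalkMapₗ π x) := by
        rw [Submodule.map_span, Set.image_singleton, hπg]
        refine le_antisymm ?_ ((Submodule.span_singleton_le_iff_mem _ _).2
          ⟨(Coh.structureModule X).presheaf.germ ⊤ x trivial (1 : Γ(X, ⊤)), ?_⟩)
        · rintro _ ⟨z, rfl⟩
          obtain ⟨W, hxW, r, rfl⟩ := TopCat.Presheaf.exists_germ_eq (Coh.structureModule X).presheaf z
          exact Submodule.mem_span_singleton.2 ⟨_, (ha x W hxW r).symm⟩
        · exact (ha x ⊤ trivial 1).trans (by rw [map_one, one_smul])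
      refine ⟨hcomp ▸ hsurj.comp (hπ x).1, ?_⟩
      rw [hcomp, LinearMap.ker_comp, ← hex, hrange, Submodule.comap_map_eq, (hπ x).2,
        ← Submodule.span_union]
      congr 1
      ext z
      simp only [Set.mem_union, Set.mem_singleton_iff, Set.mem_range]
      refine ⟨?_, ?_⟩
      · rintro (rfl | ⟨i, rfl⟩)
        exacts [⟨Fin.last n, rfl⟩, ⟨i.castSucc, rfl⟩]
      · rintro ⟨i, rfl⟩
        induction i using Fin.lastCases with
        | last => exact Or.inl rfl
        | cast j => exact Or.inr ⟨j, rfl⟩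

variable [IsIntegral X]

/-- Frames of a bundle and of its determinant near a point. -/
theorem exists_frames {G : X.Modules} {n : ℕ} (hG : FlatMod.IsFinLocFreeOfRank n G) (s : Fin n → Γ(G, ⊤))
    (hη : ∀ b : Module.Basis (Fin n) (X.presheaf.stalk (genericPoint X)) (G.presheaf.stalk (genericPoint X)),
      b.det (fun i => G.presheaf.germ ⊤ (genericPoint X) trivial (s i)) ≠ 0) (x : X) :
    ∃ (b : Module.Basis (Fin n) (X.presheaf.stalk x) (G.presheaf.stalk x))
      (c : X.presheaf.stalk x ≃ₗ[X.presheaf.stalk x] (ExtPowSh.L G n).presheaf.stalk x),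
      b.det (fun i => G.presheaf.germ ⊤ x trivial (s i)) ≠ 0 ∧
      (ExtPowSh.L G n).presheaf.germ ⊤ x trivial (ExtPowSh.toL G n ⊤ (exteriorPower.ιMulti _ n s)) =
        b.det (fun i => G.presheaf.germ ⊤ x trivial (s i)) • c 1 := by
  classical
  have hGf : FlatMod.IsFinLocFree G := fun y => let ⟨W, hy, he⟩ := hG y; ⟨W, n, hy, he⟩
  have hq := QCoh.isQCoh_of_isFinLocFree hGf
  let L := ExtPowSh.L G n
  have hLq : Coh.IsQCoh L := ExtPowSh.isQCoh G n hq
  obtain ⟨U, hxU, ⟨e⟩⟩ := hG x
  obtain ⟨_, ⟨V, hV, rfl⟩, hxV, hle⟩ := X.isBasis_affineOpens.exists_subset_of_mem_open hxU U.2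
  replace hV : IsAffineOpen V := hV
  have hηV : genericPoint X ∈ V := ((genericPoint_spec X).specializes (Set.mem_univ x)).mem_open V.2 hxV
  obtain ⟨l⟩ := QCoh.free_sections hV hle e
  let B : Module.Basis (Fin n) Γ(X, V) Γ(G, V) := (Module.Basis.ofRepr l).reindex Equiv.ulift
  let sV : Fin n → Γ(G, V) := fun i => G.presheaf.map (homOfLE (le_top : V ≤ ⊤)).op (s i)
  let d := B.det sV
  have hdet : ∀ (y : X) (hy : y ∈ V), ∃ b : Module.Basis (Fin n) (X.presheaf.stalk y) (G.presheaf.stalk y),
      b.det (fun i => G.presheaf.germ ⊤ y trivial (s i)) = X.presheaf.germ V y hy d := fun y hy => by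
    letI := QCoh.stalkAlg (X := X) hy
    letI := QCoh.stalkModule G hy
    haveI := QCoh.isScalarTower_stalk G hy
    haveI := QCoh.isLocalization_stalk' hV hy
    haveI := QCoh.isLocalizedModule_germLin hq hV hy
    refine ⟨B.ofIsLocalizedModule (X.presheaf.stalk y) (hV.primeIdealOf ⟨y, hy⟩).asIdeal.primeCompl
      (QCoh.germLin G hy), ?_⟩
    rw [Module.Basis.det_apply, show d = (B.toMatrix sV).det from B.det_apply sV]
    refine Eq.trans ?_ (RingHom.map_det (X.presheaf.germ V y hy).hom (B.toMatrix sV)).symm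
    congr 1
    ext i j
    rw [RingHom.mapMatrix_apply, Matrix.map_apply, Module.Basis.toMatrix_apply, Module.Basis.toMatrix_apply,
      show G.presheaf.germ ⊤ y trivial (s j) = QCoh.germLin G hy (sV j) from
        (G.presheaf.germ_res_apply (homOfLE le_top) y hy (s j)).symm]
    exact Module.Basis.ofIsLocalizedModule_repr_apply ..
  obtain ⟨bη, hbη⟩ := hdet _ hηV
  have hd0 : d ≠ 0 := fun h => hη bη (by rw [hbη, h, map_zero])
  obtain ⟨b, hb⟩ := hdet x hxV
  have hdx : X.presheaf.germ V x hxV d ≠ 0 := fun h =>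
    hd0 (germ_injective_of_isIntegral X x hxV (h.trans (map_zero _).symm))
  -- the frame of the determinant
  let f : Γ(G, V) [⋀^Fin n]→ₗ[Γ(X, V)] Γ(L, V) :=
    (ExtPowSh.toL G n V).compAlternatingMap (exteriorPower.ιMulti Γ(X, V) n)
  let g : Γ(L, V) := f B
  let r : ↥(⋀[Γ(X, V)]^n Γ(G, V)) →ₗ[Γ(X, V)] Γ(X, V) := exteriorPower.alternatingMapLinearEquiv B.det
  have hr1 : r (exteriorPower.ιMulti Γ(X, V) n B) = 1 := by
    rw [exteriorPower.alternatingMapLinearEquiv_apply_ιMulti, B.det_self]
  let T := LinearEquiv.ofBijective (ExtPowSh.toL G n V) (ExtPowSh.toL_bijective G n hq hV)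
  have hgen : Function.Bijective (LinearMap.toSpanSingleton Γ(X, V) Γ(L, V) g) := by
    refine ⟨fun p q hpq => ?_, fun z => ?_⟩
    · have h := congrArg (fun z => r (T.symm z)) hpq
      simp only [LinearMap.toSpanSingleton_apply, map_smul] at h
      rw [show T.symm g = exteriorPower.ιMulti Γ(X, V) n B from T.symm_apply_apply _, hr1,
        smul_eq_mul, smul_eq_mul, mul_one, mul_one] at h
      exact h
    · obtain ⟨w, rfl⟩ := T.surjective z
      have hw : w ∈ Submodule.span Γ(X, V) (Set.range (exteriorPower.ιMulti Γ(X, V) n (M := Γ(G, V)))) := by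
        rw [exteriorPower.ιMulti_span]; trivial
      refine Submodule.span_induction ?_ ⟨0, by simp⟩ ?_ ?_ hw
      · rintro _ ⟨v, rfl⟩
        exact ⟨B.det v, ((eq_det_smul B f v).symm)⟩
      · rintro a b - - ⟨p, hp⟩ ⟨q, hq⟩
        exact ⟨p + q, by rw [map_add, map_add, hp, hq]⟩
      · rintro a w - ⟨p, hp⟩
        exact ⟨a • p, by rw [map_smul, map_smul, hp]⟩
  let BL : Module.Basis Unit Γ(X, V) Γ(L, V) :=
    (Module.Basis.singleton Unit Γ(X, V)).map (LinearEquiv.ofBijective _ hgen)
  letI := QCoh.stalkAlg (X := X) hxV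
  letI := QCoh.stalkModule L hxV
  haveI := QCoh.isScalarTower_stalk L hxV
  haveI := QCoh.isLocalization_stalk' hV hxV
  haveI := QCoh.isLocalizedModule_germLin hLq hV hxV
  let bL := BL.ofIsLocalizedModule (X.presheaf.stalk x) (hV.primeIdealOf ⟨x, hxV⟩).asIdeal.primeCompl
    (QCoh.germLin L hxV)
  refine ⟨b, (LinearEquiv.funUnique Unit (X.presheaf.stalk x) (X.presheaf.stalk x)).symm.trans bL.equivFun.symm,
    hb ▸ hdx, ?_⟩
  have hc : ((LinearEquiv.funUnique Unit (X.presheaf.stalk x) (X.presheaf.stalk x)).symm.trans bL.equivFun.symm)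
      1 = L.presheaf.germ V x hxV g := by
    rw [LinearEquiv.trans_apply, Module.Basis.equivFun_symm_apply, Fintype.sum_unique]
    rw [show (LinearEquiv.funUnique Unit (X.presheaf.stalk x) (X.presheaf.stalk x)).symm 1 default = 1 from rfl,
      one_smul]
    refine (Module.Basis.ofIsLocalizedModule_apply _ _ _ _ _).trans ?_
    refine congrArg (L.presheaf.germ V x hxV) ?_
    rw [Module.Basis.map_apply, Module.Basis.singleton_apply, LinearEquiv.ofBijective_apply,
      LinearMap.toSpanSingleton_apply, one_smul]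
  rw [hc, hb]
  refine ((L.presheaf.germ_res_apply (homOfLE (le_top : V ≤ ⊤)) x hxV _).symm.trans ?_).trans
    (QCoh.germ_smul' L (hx := hxV) d g)
  refine congrArg (L.presheaf.germ V x hxV) ?_
  refine (ExtPowSh.map_toL G n le_top _).trans ?_
  refine Eq.trans (congrArg (ExtPowSh.toL G n V) (ExtPowSh.map_ιMulti (ExtPowSh.resL G le_top) s)) ?_
  exact eq_det_smul B f sV

include k in
/-- A generated bundle has the degree of its determinant. -/
theorem deg_eq_det_of_generated (hdim : topologicalKrullDim X ≤ 1) {G : X.Modules} {n : ℕ}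
    (hG : FlatMod.IsFinLocFreeOfRank n G) {ι : Type u} (t : ι → Γ(G, ⊤)) (ht : ProjUP.GeneratedBy G t) :
    Curv2.deg k X G n = Curv2.deg k X (ExtPowSh.L G n) 1 := by
  classical
  haveI := CurveCohLib.isNoetherian_of_proper (k := k) (X := X)
  have hGf : FlatMod.IsFinLocFree G := fun y => let ⟨W, hy, he⟩ := hG y; ⟨W, n, hy, he⟩
  have hGc : Coh.IsCoh G := CurveDeg.isCoh_of_isFinLocFree hGf
  have hLc : Coh.IsCoh (ExtPowSh.L G n) := CurveDeg.isCoh_of_isFinLocFree (ExtPowSh.isFinLocFree (i := n) hGf)
  let η := genericPoint X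
  obtain ⟨s, hsη⟩ : ∃ s : Fin n → Γ(G, ⊤),
      ∀ b : Module.Basis (Fin n) (X.presheaf.stalk η) (G.presheaf.stalk η),
        b.det (fun i => G.presheaf.germ ⊤ η trivial (s i)) ≠ 0 := by
    letI := (CurveBundle.isField_stalk_generic (X := X)).toField
    obtain ⟨b₀⟩ := CurveTensor.exists_basis_stalk hG η
    obtain ⟨S, hS, hspan, hli⟩ := exists_linearIndependent (X.presheaf.stalk η)
      (Set.range fun i => G.presheaf.germ ⊤ η trivial (t i))
    let B₁ : Module.Basis S (X.presheaf.stalk η) (G.presheaf.stalk η) := Module.Basis.mk hli (by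
      rw [Subtype.range_coe, hspan]
      exact (ht η).ge)
    let σ := B₁.indexEquiv b₀
    choose i hi using fun j : Fin n => hS (σ.symm j).2
    refine ⟨fun j => t (i j), fun b h => ?_⟩
    have hv : (fun j => G.presheaf.germ ⊤ η trivial (t (i j))) = ⇑(B₁.reindex σ) := funext fun j =>
      (hi j).trans (by rw [Module.Basis.reindex_apply, Module.Basis.mk_apply])
    rw [hv] at h
    exact (b.isUnit_det (B₁.reindex σ)).ne_zero h
  let w : Fin 1 → Γ(ExtPowSh.L G n, ⊤) := fun _ => ExtPowSh.toL G n ⊤ (exteriorPower.ιMulti _ n s)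
  choose b c hd hw using fun x => exists_frames hG s hsη x
  obtain ⟨Q, π, hQ, hχ, hπ⟩ := exists_quot k hGc s fun x => by
    refine Fintype.linearIndependent_iff.2 fun g hg => congrFun ?_
    refine Matrix.eq_zero_of_mulVec_eq_zero (M := (b x).toMatrix fun i => G.presheaf.germ ⊤ x trivial (s i))
      (by rw [← Module.Basis.det_apply]; exact hd x) (funext fun i => ?_)
    have h := congrArg (fun z => (b x).repr z i) hg
    simp only [map_sum, map_smul, map_zero, Finsupp.coe_finset_sum, Finset.sum_apply, Finsupp.smul_apply,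
      smul_eq_mul, Finsupp.zero_apply] at h
    refine Eq.trans ?_ h
    simp only [Matrix.mulVec, dotProduct, Module.Basis.toMatrix_apply]
    exact Finset.sum_congr rfl fun j _ => mul_comm ((b x).repr (G.presheaf.germ ⊤ x trivial (s j)) i) (g j)
  obtain ⟨Q', π', hQ', hχ', hπ'⟩ := exists_quot k hLc w fun x => by
    refine Fintype.linearIndependent_iff.2 fun g hg i => ?_
    rw [Fin.sum_univ_one] at hg
    rw [show (w 0) = _ from rfl, hw x, ← mul_smul, ← (c x).map_zero, ← map_smul, (c x).injective.eq_iff,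
      smul_eq_mul, mul_one] at hg
    rw [Fin.fin_one_eq_zero i]
    exact (mul_eq_zero.1 hg).resolve_right (hd x)
  have hrg : ∀ x : X, (Set.range fun i => (ExtPowSh.L G n).presheaf.germ ⊤ x trivial (w i)) =
      {(ExtPowSh.L G n).presheaf.germ ⊤ x trivial (w 0)} := fun x => by
    exact Set.range_unique
  have hη : Subsingleton (Q.presheaf.stalk η) ∧ Subsingleton (Q'.presheaf.stalk η) := by
    letI := (CurveBundle.isField_stalk_generic (X := X)).toField
    refine ⟨subsingleton_of_forall_eq 0 fun q => ?_, subsingleton_of_forall_eq 0 fun q => ?_⟩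
    · obtain ⟨z, rfl⟩ := (hπ η).1 q
      rw [← LinearMap.mem_ker, (hπ η).2, ((Module.Basis.is_basis_iff_det (b η)).2 (Ne.isUnit (hd η))).2]
      trivial
    · obtain ⟨z, rfl⟩ := (hπ' η).1 q
      rw [← LinearMap.mem_ker, (hπ' η).2, hrg, Submodule.mem_span_singleton]
      refine ⟨(c η).symm z / (b η).det (fun i => G.presheaf.germ ⊤ η trivial (s i)), ?_⟩
      rw [show w 0 = _ from rfl, hw η, ← mul_smul, div_mul_cancel₀ _ (hd η), ← map_smul, smul_eq_mul,
        mul_one, (c η).apply_symm_apply]
  have hcl : ∀ {M : X.Modules}, Subsingleton (M.presheaf.stalk η) → ∀ x ∈ CohB1.support M,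
      IsClosed ({x} : Set X) := fun {M} hM x hx =>
    CurvePsi.isClosed_of_dim_le_one hdim ((genericPoint_spec X).specializes (Set.mem_univ x)) fun h => by
      subst h
      exact hx hM
  have hfin : (CohB1.support Q ∪ CohB1.support Q').Finite :=
    (CurveCohLib.finite_of_closedPoints (QCoh.isClosed_support_of_isFT hQ.1 hQ.2) (hcl hη.1)).union
      (CurveCohLib.finite_of_closedPoints (QCoh.isClosed_support_of_isFT hQ'.1 hQ'.2) (hcl hη.2))
  obtain ⟨e1, f1⟩ := CurveCohLib.euler_eq_sum_stalks (k := k) hQ (hcl hη.1) hfin.toFinset (by simp)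
  obtain ⟨e2, f2⟩ := CurveCohLib.euler_eq_sum_stalks (k := k) hQ' (hcl hη.2) hfin.toFinset (by simp)
  have hsum : Curv2.euler k X Q = Curv2.euler k X Q' := by
    rw [e1, e2]
    refine Finset.sum_congr rfl fun x hx => ?_
    letI : Algebra k (X.presheaf.stalk x) := (Curv2.stalkMap k X x).toAlgebra
    letI := CurveCohLib.stalkModuleK k Q x
    letI := CurveCohLib.stalkModuleK k Q' x
    haveI : IsScalarTower k (X.presheaf.stalk x) (Q.presheaf.stalk x) :=
      .of_algebraMap_smul fun _ _ => rfl
    haveI : IsScalarTower k (X.presheaf.stalk x) (Q'.presheaf.stalk x) :=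
      .of_algebraMap_smul fun _ _ => rfl
    haveI := f1 x hx
    haveI := f2 x hx
    refine congrArg Nat.cast ?_
    exact finrank_quot_eq_det k (b x) (c x) _ (hd x) _ (hw x)
      ((Submodule.quotEquivOfEq _ _ (hπ x).2.symm).trans
        ((Algz.stalkMapₗ π x).quotKerEquivOfSurjective (hπ x).1))
      ((Submodule.quotEquivOfEq _ _ (show Submodule.span (X.presheaf.stalk x) {(ExtPowSh.L G n).presheaf.germ ⊤ x trivial (w 0)} = _ from
          (congrArg (Submodule.span (X.presheaf.stalk x)) (hrg x)).symm.trans (hπ' x).2.symm)).trans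
        ((Algz.stalkMapₗ π' x).quotKerEquivOfSurjective (hπ' x).1))
  rw [hχ, hχ'] at hsum
  exact hsum

end Groth.Agent.CurveFinMap
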