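import Groth.Agent.S0612
import Mathlib.RingTheory.FiniteLength
import Mathlib.LinearAlgebra.Determinant

/-!
Dimensions of cokernels of square systems of vectors over a one-dimensional local domain over a field.
-/

noncomputable section

universe u

set_option linter.style.haveILetI false
set_option linter.unusedSectionVars false

namespace Groth.Agent.CurveFinMap

variable (k : Type u) [Field k] {R : Type u} [CommRing R] [IsLocalRing R] [Algebra k R]

/-- Length over the ground field. -/
theorem length_eq_mul {M : Type u} [AddCommGroup M] [Module R M] (h : IsFiniteLength R M) :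
    ∀ [Module k M] [IsScalarTower k R M],
      Module.length k M = Module.length R M * Module.length k (IsLocalRing.ResidueField R) := by
  induction h with
  | of_subsingleton => intros; simp [Module.length_eq_zero]
  | @of_simple_quotient M _ _ N _ hN ih =>
    intro _ _
    obtain ⟨I, hI, ⟨e⟩⟩ := (isSimpleModule_iff_quot_maximal (R := R) (M := M ⧸ N)).1 inferInstance
    obtain rfl := IsLocalRing.eq_maximalIdeal hI
    have h1 : Module.length k M = Module.length k N + Module.length k (M ⧸ N) :=
      Module.length_eq_add_of_exact (N.subtype.restrictScalars k) (N.mkQ.restrictScalars k)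
        Subtype.val_injective N.mkQ_surjective (LinearMap.exact_subtype_mkQ N)
    rw [h1, ih, Module.length_eq_add_of_exact N.subtype N.mkQ Subtype.val_injective N.mkQ_surjective
      (LinearMap.exact_subtype_mkQ N), (e.restrictScalars k).length_eq, Module.length_eq_one R (M ⧸ N),
      add_mul, one_mul]
    rfl

/-- Two modules of finite dimension and the same length have the same dimension. -/
theorem finrank_eq_of_length_eq {A B : Type u} [AddCommGroup A] [Module R A] [Module k A] [IsScalarTower k R A]
    [Module.Finite k A] [AddCommGroup B] [Module R B] [Module k B] [IsScalarTower k R B] [Module.Finite k B]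
    (h : Module.length R A = Module.length R B) : Module.finrank k A = Module.finrank k B := by
  have hA : IsFiniteLength R A := isFiniteLength_iff_isNoetherian_isArtinian.2
    ⟨isNoetherian_of_tower k inferInstance, isArtinian_of_tower k inferInstance⟩
  have hB : IsFiniteLength R B := isFiniteLength_iff_isNoetherian_isArtinian.2
    ⟨isNoetherian_of_tower k inferInstance, isArtinian_of_tower k inferInstance⟩
  have e : Module.length k A = Module.length k B := by
    rw [length_eq_mul k hA, length_eq_mul k hB, h]
  rw [Module.length_eq_finrank, Module.length_eq_finrank] at e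
  exact_mod_cast e

omit [IsLocalRing R] in
/-- An alternating map is its value on a basis times the determinant. -/
theorem eq_det_smul {M N : Type*} [AddCommGroup M] [Module R M] [AddCommGroup N] [Module R N] {ι : Type*}
    [Fintype ι] [DecidableEq ι] (b : Module.Basis ι R M) (f : M [⋀^ι]→ₗ[R] N) (v : ι → M) :
    f v = b.det v • f b := by
  suffices h : f = (LinearMap.toSpanSingleton R N (f b)).compAlternatingMap b.det from
    (DFunLike.congr_fun h v).trans rfl
  refine Module.Basis.ext_alternating b fun w hw => ?_
  let σ : Equiv.Perm ι := Equiv.ofBijective w (Finite.injective_iff_bijective.1 hw)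
  show f (b ∘ σ) = b.det (b ∘ σ) • f b
  rw [AlternatingMap.map_perm, AlternatingMap.map_perm, b.det_self, Units.smul_def, Units.smul_def,
    smul_assoc, one_smul]

variable [IsNoetherianRing R] [IsDomain R]

/-- The cokernel of a square system and the cokernel of its determinant have the same dimension. -/
theorem finrank_quot_eq_det {n : ℕ} {M L QM QL : Type u} [AddCommGroup M] [Module R M] [AddCommGroup L]
    [Module R L] [AddCommGroup QM] [Module R QM] [Module k QM] [IsScalarTower k R QM] [Module.Finite k QM]
    [AddCommGroup QL] [Module R QL] [Module k QL] [IsScalarTower k R QL] [Module.Finite k QL]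
    (b : Module.Basis (Fin n) R M) (c : R ≃ₗ[R] L) (v : Fin n → M) (hd : b.det v ≠ 0) (w : L)
    (hw : w = b.det v • c 1) (eM : (M ⧸ Submodule.span R (Set.range v)) ≃ₗ[R] QM)
    (eL : (L ⧸ Submodule.span R {w}) ≃ₗ[R] QL) : Module.finrank k QM = Module.finrank k QL := by
  refine finrank_eq_of_length_eq k (R := R) ?_
  rw [← eM.length_eq, ← eL.length_eq]
  let g : (Fin n → R) →ₗ[R] M := Fintype.linearCombination R v
  let φ : (Fin n → R) →ₗ[R] (Fin n → R) := b.equivFun.toLinearMap ∘ₗ g
  have hdet : LinearMap.det φ = b.det v := by
    rw [← LinearMap.det_toMatrix (Pi.basisFun R (Fin n)), Module.Basis.det_apply]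
    congr 1
    ext i j
    simp [φ, g, LinearMap.toMatrix_apply, Module.Basis.toMatrix_apply, Fintype.linearCombination_apply,
      Pi.single_apply]
  have h1 : Module.length R (M ⧸ Submodule.span R (Set.range v)) =
      Module.length R ((Fin n → R) ⧸ LinearMap.range φ) := by
    refine (Submodule.Quotient.equiv _ _ b.equivFun ?_).length_eq
    show (Submodule.span R (Set.range v)).map b.equivFun.toLinearMap =
      LinearMap.range (b.equivFun.toLinearMap ∘ₗ g)
    rw [LinearMap.range_comp, Fintype.range_linearCombination]
  rw [h1, S0612.result φ (mem_nonZeroDivisors_of_ne_zero (hdet ▸ hd)), hdet, Ring.ord]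
  refine (Submodule.Quotient.equiv _ _ c ?_).length_eq
  show (Submodule.span R {b.det v}).map c.toLinearMap = _
  rw [Submodule.map_span, Set.image_singleton, hw]
  congr 2
  show c (b.det v) = _
  rw [← map_smul, smul_eq_mul, mul_one]

end Groth.Agent.CurveFinMap
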